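import Groth.Prelude.Def_FlatMod2
import Mathlib.Algebra.Category.ModuleCat.Presheaf.Free
import Mathlib.Algebra.Category.ModuleCat.Presheaf.Sheafification
import Mathlib.Algebra.Category.ModuleCat.Sheaf.ChangeOfRings
import Mathlib.Topology.Sheaves.Sheafify
import Mathlib.RingTheory.Flat.Basic

/-!
Every sheaf of modules over a flat sheaf of algebras is a quotient of one which is flat over the base.
-/

set_option autoImplicit false

universe u

open CategoryTheory AlgebraicGeometry TopologicalSpace Opposite

namespace GrothLib.FlatEpi29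

variable {X : Scheme.{u}} (A : Sheaf (Opens.grothendieckTopology X) RingCat.{u}) (φ : X.ringCatSheaf ⟶ A)
  (M : SheafOfModules.{u} A)

/-- All pairs of an open and a section over it. -/
abbrev Idx : Type u := Σ U : Opens X, M.val.obj (op U)

/-- The presheaf of sets of sections defined on larger opens. -/
def E : (Opens X)ᵒᵖ ⥤ Type u where
  obj V := {p : Idx A M // V.unop ≤ p.1}
  map f := ↾fun p => ⟨p.1, le_trans f.unop.le p.2⟩

/-- The free presheaf on `E`. -/
noncomputable def P : PresheafOfModules.{u} A.obj := PresheafOfModules.freeObj (E A M)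

/-- Evaluation `E ⟶ M`. -/
noncomputable def ev : E A M ⟶ M.val.presheaf ⋙ CategoryTheory.forget Ab where
  app V := ↾fun p => M.val.presheaf.map (show op p.1.1 ⟶ V from (homOfLE p.2).op) p.1.2
  naturality V W f := by
    ext p
    show M.val.presheaf.map _ p.1.2 = M.val.presheaf.map f (M.val.presheaf.map _ p.1.2)
    exact ConcreteCategory.congr_hom (M.val.presheaf.map_comp (homOfLE p.2).op f) p.1.2

/-- The flat cover. -/
noncomputable def F : SheafOfModules.{u} A := (PresheafOfModules.sheafification (𝟙 A.obj)).obj (P A M)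

/-- The map to `M`. -/
noncomputable def π : F A M ⟶ M :=
  (PresheafOfModules.sheafificationHomEquiv (𝟙 A.obj)).symm (PresheafOfModules.freeObjDesc (ev A M))

theorem epi_π : Epi (π A M) := by
  constructor
  intro N a b hab
  refine SheafOfModules.hom_ext (PresheafOfModules.hom_ext fun V => ?_)
  refine ModuleCat.hom_ext (LinearMap.ext fun m => ?_)
  let q : (P A M).obj V := ModuleCat.freeMk (R := A.obj.obj V) ⟨⟨V.unop, m⟩, le_refl _⟩
  have h0 : (PresheafOfModules.freeObjDesc (ev A M)).app V q = m := by
    show ModuleCat.freeDesc _ (ModuleCat.freeMk _) = m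
    rw [ModuleCat.freeDesc_apply]
    exact ConcreteCategory.congr_hom (M.val.presheaf.map_id V) m
  have h1 := PresheafOfModules.toPresheaf_map_sheafificationHomEquiv_def (𝟙 A.obj)
    (F := M) (π A M)
  rw [π, Equiv.apply_symm_apply] at h1
  have h2 := ConcreteCategory.congr_hom (NatTrans.congr_app h1 V) q
  have h3 : ∀ c : M ⟶ N, c.val.app V m = (π A M ≫ c).val.app V
      ((CategoryTheory.toSheafify (Opens.grothendieckTopology X) (P A M).presheaf).app V q) := fun c => by
    rw [← h0]
    exact congrArg (c.val.app V) h2
  exact (h3 a).trans ((congrArg (fun t : F A M ⟶ N => t.val.app V _) hab).trans (h3 b).symm)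

/-- `A` as a module over the structure sheaf. -/
noncomputable abbrev AMod : X.Modules := (SheafOfModules.restrictScalars φ).obj (SheafOfModules.unit A)

/-- The cover as a module over the structure sheaf. -/
noncomputable abbrev FMod : X.Modules := (SheafOfModules.restrictScalars φ).obj (F A M)

variable (x : X)

/-- The sections whose open contains `x`. -/
abbrev Ex : Type u := {p : Idx A M // x ∈ p.1}

/-- The germ on coefficients. -/
noncomputable def gA (V : Opens X) (hx : x ∈ V) : A.obj.obj (op V) →+ (AMod A φ).presheaf.stalk x :=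
  ((AMod A φ).presheaf.germ V x hx).hom

/-- The value of a section of the free presheaf at `x`. -/
noncomputable def θ (V : Opens X) (hx : x ∈ V) :
    ((E A M).obj (op V) →₀ A.obj.obj (op V)) →+ (Ex A M x →₀ (AMod A φ).presheaf.stalk x) :=
  (Finsupp.mapDomain.addMonoidHom (fun p : (E A M).obj (op V) => (⟨p.1, p.2 hx⟩ : Ex A M x))).comp
    (Finsupp.mapRange.addMonoidHom (gA A φ x V hx))

theorem θ_single (V : Opens X) (hx : x ∈ V) (p : (E A M).obj (op V)) (a : A.obj.obj (op V)) :
    θ A φ M x V hx (Finsupp.single p a) = Finsupp.single ⟨p.1, p.2 hx⟩ (gA A φ x V hx a) := by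
  simp [θ]

theorem P_map_single {V W : (Opens X)ᵒᵖ} (f : V ⟶ W) (p : (E A M).obj V) (a : A.obj.obj V) :
    (P A M).map f (show (P A M).obj V from Finsupp.single p a) =
      (show (P A M).obj W from Finsupp.single ((E A M).map f p) (A.obj.map f a)) := by
  have h : (show (P A M).obj V from Finsupp.single p a) =
      a • (show (P A M).obj V from ModuleCat.freeMk (R := A.obj.obj V) p) := by
    show Finsupp.single p a = a • Finsupp.single p (1 : A.obj.obj V)
    rw [Finsupp.smul_single, smul_eq_mul, mul_one]
  rw [h, PresheafOfModules.map_smul]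
  have h2 : (P A M).map f (show (P A M).obj V from ModuleCat.freeMk (R := A.obj.obj V) p) =
      (show (P A M).obj W from ModuleCat.freeMk (R := A.obj.obj W) ((E A M).map f p)) :=
    ModuleCat.freeDesc_apply _ p
  rw [h2]
  exact Finsupp.smul_single_one ((E A M).map f p) (A.obj.map f a)

theorem θ_res {V W : Opens X} (f : W ⟶ V) (hx : x ∈ W) (q : (P A M).obj (op V)) :
    θ A φ M x W hx ((P A M).map f.op q) = θ A φ M x V (f.le hx) q := by
  induction q using Finsupp.induction with
  | zero => exact (congrArg _ (map_zero ((P A M).map f.op).hom)).trans ((map_zero _).trans (map_zero _).symm)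
  | single_add p a q _ _ ih =>
    refine (congrArg (θ A φ M x W hx) (map_add ((P A M).map f.op).hom _ _)).trans ?_
    refine (map_add (θ A φ M x W hx) _ _).trans ?_
    refine Eq.trans ?_ (map_add (θ A φ M x V (f.le hx)) _ _).symm
    refine congrArg₂ (· + ·) ?_ ih
    refine (congrArg (θ A φ M x W hx) (P_map_single A M f.op p a)).trans ?_
    rw [θ_single, θ_single]
    congr 1
    exact (AMod A φ).presheaf.germ_res_apply f x hx a

/-- The cocone of values at `x`. -/
noncomputable def cone : Limits.Cocone ((OpenNhds.inclusion x).op ⋙ (P A M).presheaf) where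
  pt := AddCommGrpCat.of (Ex A M x →₀ (AMod A φ).presheaf.stalk x)
  ι :=
    { app := fun V => AddCommGrpCat.ofHom (θ A φ M x _ V.unop.2)
      naturality := fun V W f => by
        ext q
        exact θ_res A φ M x ((OpenNhds.inclusion x).map f.unop) W.unop.2 q }

/-- The map from the stalk of the free presheaf. -/
noncomputable def Θ : TopCat.Presheaf.stalk (P A M).presheaf x ⟶
    AddCommGrpCat.of (Ex A M x →₀ (AMod A φ).presheaf.stalk x) :=
  Limits.colimit.desc ((OpenNhds.inclusion x).op ⋙ (P A M).presheaf) (cone A φ M x)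

theorem Θ_germ (V : Opens X) (hx : x ∈ V) (q : (P A M).obj (op V)) :
    Θ A φ M x (TopCat.Presheaf.germ (P A M).presheaf V x hx q) = θ A φ M x V hx q :=
  ConcreteCategory.congr_hom (Limits.colimit.ι_desc (cone A φ M x) (op (⟨V, hx⟩ : OpenNhds x))) q

theorem θ_smul (V : Opens X) (hx : x ∈ V) (r : X.presheaf.obj (op V))
    (q : (E A M).obj (op V) →₀ A.obj.obj (op V)) :
    θ A φ M x V hx ((φ.hom.app (op V) r : A.obj.obj (op V)) • q) =
      X.presheaf.germ V x hx r • θ A φ M x V hx q := by
  induction q using Finsupp.induction with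
  | zero => rw [smul_zero, map_zero, smul_zero]
  | single_add p a q _ _ ih =>
    rw [smul_add, map_add, map_add, smul_add, ih, Finsupp.smul_single, θ_single, θ_single, Finsupp.smul_single]
    congr 2
    exact PresheafOfModules.germ_smul (R := X.presheaf) (AMod A φ).val x _ hx r a

theorem bijective_Θ : Function.Bijective (Θ A φ M x) := by
  classical
  constructor
  · refine (injective_iff_map_eq_zero (Θ A φ M x).hom).2 fun z hz => ?_
    obtain ⟨V, hx, q, rfl⟩ := TopCat.Presheaf.germ_exist (P A M).presheaf z
    rw [Θ_germ] at hz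
    suffices ∀ q : (E A M).obj (op V) →₀ A.obj.obj (op V), (∀ p, gA A φ x V hx (q p) = 0) →
        TopCat.Presheaf.germ (P A M).presheaf V x hx (show (P A M).obj (op V) from q) = 0 by
      refine this q fun p => ?_
      have h1 := Finsupp.mapDomain_injective (fun a b h => Subtype.ext (congrArg (fun t => t.1) h))
        (hz.trans (Finsupp.mapDomain_zero (f := fun p : (E A M).obj (op V) => (⟨p.1, p.2 hx⟩ : Ex A M x))).symm)
      exact (DFunLike.congr_fun h1 p).trans rfl
    intro q
    induction q using Finsupp.induction with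
    | zero => exact fun _ => map_zero _
    | single_add p a q hp ha ih =>
      intro h
      refine (map_add (TopCat.Presheaf.germ (P A M).presheaf V x hx).hom _ _).trans ?_
      have hq : ∀ p', gA A φ x V hx (q p') = 0 := fun p' => by
        rcases eq_or_ne p' p with rfl | hne
        · rw [Finsupp.notMem_support_iff.1 hp, map_zero]
        · have := h p'
          rwa [Finsupp.add_apply, Finsupp.single_eq_of_ne hne, zero_add] at this
      have ha0 : gA A φ x V hx a = 0 := by
        have := h p
        rwa [Finsupp.add_apply, Finsupp.single_eq_same, Finsupp.notMem_support_iff.1 hp, add_zero] at this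
      refine (congrArg₂ (· + ·) ?_ (ih hq)).trans (add_zero 0)
      obtain ⟨W, hW, i, j, e⟩ := TopCat.Presheaf.germ_eq (AMod A φ).presheaf x hx hx a (0 : A.obj.obj (op V))
        (ha0.trans (map_zero (gA A φ x V hx)).symm)
      refine (TopCat.Presheaf.germ_res_apply (P A M).presheaf i x hW _).symm.trans ?_
      refine (congrArg (TopCat.Presheaf.germ (P A M).presheaf W x hW) (P_map_single A M i.op p a)).trans ?_
      have e' : A.obj.map i.op a = 0 := e.trans (map_zero (A.obj.map j.op).hom)
      rw [e', Finsupp.single_zero]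
      exact map_zero _
  · intro v
    induction v using Finsupp.induction with
    | zero => exact ⟨0, map_zero _⟩
    | single_add p n v _ _ ih =>
      obtain ⟨z, rfl⟩ := ih
      obtain ⟨V, hx, a, rfl⟩ := TopCat.Presheaf.germ_exist (AMod A φ).presheaf n
      have hx' : x ∈ V ⊓ p.1.1 := ⟨hx, p.2⟩
      let q : (P A M).obj (op (V ⊓ p.1.1)) := Finsupp.single ⟨p.1, inf_le_right⟩
        (A.obj.map (homOfLE (inf_le_left : V ⊓ p.1.1 ≤ V)).op a)
      refine ⟨TopCat.Presheaf.germ (P A M).presheaf _ x hx' q + z, (map_add _ _ _).trans ?_⟩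
      refine congrArg (· + _) ?_
      rw [Θ_germ]
      refine (θ_single A φ M x _ hx' _ _).trans ?_
      congr 1
      exact (AMod A φ).presheaf.germ_res_apply _ x hx' a

/-- The unit on stalks. -/
noncomputable def s : TopCat.Presheaf.stalk (P A M).presheaf x ⟶ (FMod A φ M).presheaf.stalk x :=
  (TopCat.Presheaf.stalkFunctor AddCommGrpCat x).map
    (CategoryTheory.toSheafify (Opens.grothendieckTopology X) (P A M).presheaf)

theorem bijective_s : Function.Bijective (s A φ M x) := by
  haveI := TopCat.Presheaf.stalkFunctor_map_unit_toSheafify_isIso (X := X.carrier) x AddCommGrpCat.{u}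
    (P A M).presheaf
  exact ConcreteCategory.bijective_of_isIso ((TopCat.Presheaf.stalkFunctor AddCommGrpCat x).map
    (CategoryTheory.toSheafify (Opens.grothendieckTopology X) (P A M).presheaf))

theorem s_germ (V : Opens X) (hx : x ∈ V) (q : (P A M).obj (op V)) :
    s A φ M x (TopCat.Presheaf.germ (P A M).presheaf V x hx q) =
      (FMod A φ M).presheaf.germ V x hx
        ((CategoryTheory.toSheafify (Opens.grothendieckTopology X) (P A M).presheaf).app (op V) q) :=
  TopCat.Presheaf.stalkFunctor_map_germ_apply _ _ _ _ _

theorem unit_smul (V : (Opens X)ᵒᵖ) (a : A.obj.obj V) (q : (P A M).obj V) :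
    (CategoryTheory.toSheafify (Opens.grothendieckTopology X) (P A M).presheaf).app V (a • q : (P A M).obj V) =
      a • (show (F A M).val.obj V from
        (CategoryTheory.toSheafify (Opens.grothendieckTopology X) (P A M).presheaf).app V q) :=
  (((PresheafOfModules.sheafificationAdjunction (𝟙 A.obj)).unit.app (P A M)).app V).hom.map_smul a q

theorem isFlat (hA : FlatMod.IsFlat (AMod A φ)) : FlatMod.IsFlat (FMod A φ M) := by
  intro x
  haveI : Module.Flat (X.presheaf.stalk x) ((AMod A φ).presheaf.stalk x) := hA x
  let es := AddEquiv.ofBijective (s A φ M x).hom (bijective_s A φ M x)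
  let eθ := AddEquiv.ofBijective (Θ A φ M x).hom (bijective_Θ A φ M x)
  let e := es.symm.trans eθ
  have hkey : ∀ (V : Opens X) (hx : x ∈ V) (q : (P A M).obj (op V)),
      e (s A φ M x (TopCat.Presheaf.germ (P A M).presheaf V x hx q)) = θ A φ M x V hx q := fun V hx q => by
    show eθ (es.symm (es _)) = _
    rw [es.symm_apply_apply]
    exact Θ_germ A φ M x V hx q
  let L : (FMod A φ M).presheaf.stalk x ≃ₗ[X.presheaf.stalk x] (Ex A M x →₀ (AMod A φ).presheaf.stalk x) :=
    { e with
      map_smul' := fun c z => by
        obtain ⟨V, hV, r, rfl⟩ := TopCat.Presheaf.germ_exist X.presheaf c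
        obtain ⟨w, rfl⟩ := (bijective_s A φ M x).2 z
        obtain ⟨W, hW, q, rfl⟩ := TopCat.Presheaf.germ_exist (P A M).presheaf w
        have hx : x ∈ V ⊓ W := ⟨hV, hW⟩
        let i : V ⊓ W ⟶ V := homOfLE inf_le_left
        let j : V ⊓ W ⟶ W := homOfLE inf_le_right
        rw [← X.presheaf.germ_res_apply i x hx r,
          ← TopCat.Presheaf.germ_res_apply (P A M).presheaf j x hx q]
        generalize X.presheaf.map i.op r = r'
        generalize (P A M).presheaf.map j.op q = q'
        show e _ = X.presheaf.germ _ x hx r' • e _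
        have h1 : X.presheaf.germ _ x hx r' • s A φ M x (TopCat.Presheaf.germ (P A M).presheaf _ x hx q') =
            s A φ M x (TopCat.Presheaf.germ (P A M).presheaf _ x hx
              (φ.hom.app (op (V ⊓ W)) r' • q' : (P A M).obj _)) := by
          rw [s_germ, s_germ]
          refine Eq.trans ?_ (congrArg ((FMod A φ M).presheaf.germ _ x hx) (unit_smul A M _ _ _)).symm
          exact (PresheafOfModules.germ_smul (R := X.presheaf) (FMod A φ M).val x _ hx r'
            (show (F A M).val.obj (op (V ⊓ W)) from _)).symm
        rw [h1, hkey, hkey]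
        exact θ_smul A φ M x _ hx r' q' }
  classical
  haveI : Module.Flat (X.presheaf.stalk x) (Ex A M x →₀ (AMod A φ).presheaf.stalk x) :=
    Module.Flat.of_linearEquiv (finsuppLEquivDirectSum (X.presheaf.stalk x) ((AMod A φ).presheaf.stalk x) (Ex A M x))
  exact Module.Flat.of_linearEquiv L

end GrothLib.FlatEpi29
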